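import Groth.Agent.Lib.SymReg14.Pow
import Groth.Agent.Lib.IsQuot25.Desc
import Groth.Agent.Lib.IsQuot25.Exists
import Groth.Agent.Lib.IsQuot25.Free
import Groth.Agent.Lib.IsQuot25.Props
import Groth.Agent.Lib.IsQuot25.Torsor
import Groth.Agent.Lib.Pur25.BranchScheme
import Groth.Agent.Lib.NodeBlow14.Main
import Groth.Agent.Lib.RefHull26.Normal
import Groth.Agent.Lib.WeilExt.Apply
import Groth.Agent.Lib.FlatEquiH1.Core
import Groth.Agent.Lib.EquiDim4
import Groth.Agent.Lib.AlgSpRel14.RelDim

/-!
# Regular points of the symmetric product of a smooth scheme of dimension at least two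
-/

set_option autoImplicit false
set_option linter.style.haveILetI false
set_option backward.isDefEq.respectTransparency.types false

universe u

open CategoryTheory CategoryTheory.Limits AlgebraicGeometry

namespace Groth.Agent.SymReg14

open Groth.Agent.VarDim

theorem unram_stalk {X Y : Scheme.{u}} (q : X ⟶ Y) (W : X.Opens) [Etale (W.ι ≫ q)] (x : X) (hx : x ∈ W) :
    (q.stalkMap x).hom.FormallyUnramified := by
  let x' : W.toScheme := ⟨x, hx⟩
  have h := FormallyUnramified.stalkMap (W.ι ≫ q) x'
  have hc : ((W.ι ≫ q).stalkMap x').hom = (W.ι.stalkMap x').hom.comp (q.stalkMap x).hom :=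
    congrArg CommRingCat.Hom.hom (Scheme.Hom.stalkMap_comp W.ι q x')
  rw [hc] at h
  let e := (asIso (W.ι.stalkMap x')).commRingCatIsoToRingEquiv
  have h2 := RingHom.FormallyUnramified.respectsIso.1 _ e.symm h
  have he : e.symm.toRingHom.comp ((W.ι.stalkMap x').hom.comp (q.stalkMap x).hom) = (q.stalkMap x).hom :=
    RingHom.ext fun a => e.symm_apply_apply _
  exact he ▸ h2

section Quot

variable {X S Y : Scheme.{u}} (f : X ⟶ S) [IsSeparated f] (m : ℕ) (q : SymProd.fibPow f (m + 1) ⟶ Y)

theorem exists_etale_open (hq : SGA1.IsQuot (SymProd.permActU f (m + 1)) q) :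
    ∃ W : (SymProd.fibPow f (m + 1)).Opens, Etale (W.ι ≫ q) ∧ ∀ z, z ∉ bad f m → z ∈ W := by
  let V : Y.Opens := ⟨(q '' bad f m)ᶜ, (IsQuot25.isClosedMap hq _ (isClosed_bad f m)).isOpen_compl⟩
  refine ⟨q ⁻¹ᵁ V, ?_, fun z hz => ?_⟩
  · let ρU := IsQuot25.restr (SymProd.permActU f (m + 1)) (q ⁻¹ᵁ V) (IsQuot25.preimage_inv_of_inv _ hq.inv V)
    have hU := IsQuot25.morphismRestrict hq V ρU (IsQuot25.restr_ι _ _ _)
    have hfree : IsQuot25.Free ρU := by
      intro K _ _ ξ g hg
      have h1 := congrArg (· ≫ (q ⁻¹ᵁ V).ι) hg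
      simp only [Category.assoc, ρU, IsQuot25.restr_ι, SymProd.permActU_hom] at h1
      have hσ : g.down = 1 := by
        by_contra hne
        obtain ⟨i, hi⟩ : ∃ i, g.down.symm i ≠ i := by
          by_contra! hall
          exact hne (Equiv.ext fun i => by
            conv_lhs => rw [← hall i]
            simp)
        have h2 := congrArg (· ≫ WidePullback.π (fun _ : Fin (m + 1) => f) i) h1
        simp only [Category.assoc, SymProd.permHom_π] at h2
        have h3 := mem_bad f (ξ ≫ (q ⁻¹ᵁ V).ι) hi (by simpa only [Category.assoc] using h2)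
          (IsLocalRing.closedPoint K)
        rw [Scheme.Hom.comp_apply] at h3
        exact (ξ (IsLocalRing.closedPoint K)).2 ⟨_, h3, rfl⟩
      exact ULift.ext _ _ hσ
    haveI := IsQuot25.etale hU hfree
    rw [← morphismRestrict_ι]
    infer_instance
  · rintro ⟨b, hb, hqb⟩
    obtain ⟨g, hg⟩ := IsQuot25.orbit hq b z hqb
    exact hz (hg ▸ bad_perm f g.down b hb)

end Quot

variable {k : Type u} [Field k] [IsAlgClosed k] {X : Scheme.{u}} (f : X ⟶ Spec (CommRingCat.of k))
  [Smooth f] [IsSeparated f] [IrreducibleSpace X] {m : ℕ} {Y : Scheme.{u}}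
  (q : SymProd.fibPow f (m + 1) ⟶ Y) (g : Y ⟶ Spec (CommRingCat.of k))

theorem regular_iff (d : ℕ) (hd : 2 ≤ d) (hdim : topologicalKrullDim X = d) (hm : 1 ≤ m)
    (hY : SymProd.IsSymProd f (m + 1) q g) (z : ↥(SymProd.fibPow f (m + 1)))
    (hz : IsClosed ({z} : Set ↥(SymProd.fibPow f (m + 1)))) :
    IsRegularLocalRing (Y.presheaf.stalk (q z)) ↔
      Function.Injective (fun i : Fin (m + 1) => (WidePullback.π (fun _ : Fin (m + 1) => f) i).base z) := by
  obtain ⟨hs, hi, hle, w₀, hw₀⟩ := pow_props f d hdim (m + 1)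
  haveI := hs
  haveI := hi
  set b := WidePullback.base fun _ : Fin (m + 1) => f with hbdef
  have hq := hY.isQuot
  haveI := hq.affine
  haveI : LocallyOfFiniteType (q ≫ g) := by rw [hY.over]; infer_instance
  haveI : LocallyOfFiniteType g := IsQuot25.locallyOfFiniteType hq g
  haveI : LocallyOfFiniteType q := locallyOfFiniteType_of_comp q g
  haveI : IsFinite q := IsQuot25.isFinite hq
  haveI : IsLocallyNoetherian Y := LocallyOfFiniteType.isLocallyNoetherian g
  haveI : IsLocallyNoetherian (SymProd.fibPow f (m + 1)) := LocallyOfFiniteType.isLocallyNoetherian b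
  obtain ⟨W, hW, hWmem⟩ := exists_etale_open f m q hq
  haveI := hW
  constructor
  · intro hreg
    by_contra hinj
    obtain ⟨i, j, hij, hne⟩ : ∃ i j, (WidePullback.π (fun _ : Fin (m + 1) => f) i) z =
        (WidePullback.π (fun _ : Fin (m + 1) => f) j) z ∧ i ≠ j :=
      Function.not_injective_iff.1 hinj
    -- dimensions
    have hsq : ∀ w, sdim b w = sdim g (q w) := fun w => by
      have h := FibGen4.sdim_eq_add_rd (qX := b) (qY := g) (f := q) hY.over w
      rwa [AlgSpRel14.rd_eq_zero_of_lqf q w, add_zero] at h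
    have hsurj : Function.Surjective q := IsQuot25.surjective hq
    haveI : IrreducibleSpace Y := by
      rw [irreducibleSpace_def, Set.top_eq_univ, ← Set.range_eq_univ.2 hsurj, ← Set.image_univ]
      exact (IrreducibleSpace.isIrreducible_univ _).image _ q.continuous.continuousOn
    have hDP : ∀ w : ↥(SymProd.fibPow f (m + 1)), (∀ x, x ⤳ w → x = w) → sdim b w = (m + 1) * d := by
      intro w hw
      have e := hw _ (genericPoint_specializes w)
      refine le_antisymm (hle w) (hw₀ ▸ ?_)
      by_cases he : w = w₀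
      · rw [he]
      · exact (sdim_lt_of_specializes b (e ▸ genericPoint_specializes w₀) he).le
    have hDY : ∀ y : Y, (∀ x, x ⤳ y → x = y) → sdim g y = (m + 1) * d := by
      intro y hy
      obtain ⟨w, rfl⟩ := hsurj y
      have e := hy _ ((genericPoint_specializes w).map q.continuous)
      rw [← e, ← hsq, hDP _ fun x hx => (hx.antisymm (genericPoint_specializes x)).eq]
    obtain ⟨a, ha, ha'⟩ := FlatEquiH1.coheight_add_sdim b _ hDP z
    obtain ⟨a₁, ha₁, ha₁'⟩ := FlatEquiH1.coheight_add_sdim g _ hDY (q z)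
    rw [← hsq] at ha₁'
    rw [(sdim_eq_zero_iff_isClosed b z).2 hz, add_zero] at ha' ha₁'
    subst ha' ha₁'
    have hdimz : ringKrullDim ((SymProd.fibPow f (m + 1)).presheaf.stalk z) =
        ringKrullDim (Y.presheaf.stalk (q z)) := by
      rw [ringKrullDim_stalk_eq_coheight, ringKrullDim_stalk_eq_coheight, ha, ha₁]
    have h1 : (1 : WithBot ℕ∞) ≤ ringKrullDim ((SymProd.fibPow f (m + 1)).presheaf.stalk z) := by
      rw [ringKrullDim_stalk_eq_coheight, ha]
      have : 1 ≤ (m + 1) * d := Nat.one_le_iff_ne_zero.2 (Nat.mul_ne_zero (by omega) (by omega))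
      exact_mod_cast this
    have hbad : ∀ w, w ∈ bad f m → sdim b w ≤ m * d := by
      intro w hw
      obtain ⟨⟨j', k'⟩, v, rfl⟩ := Set.mem_iUnion.1 hw
      haveI : IsSeparated (forget f j') := by
        haveI := isSeparated_base f (m + 1)
        haveI : IsSeparated (forget f j' ≫ WidePullback.base (fun _ : Fin m => f)) := by
          rw [forget_base]; infer_instance
        exact IsSeparated.of_comp _ (WidePullback.base (fun _ : Fin m => f))
      haveI : IsClosedImmersion (diag f j' k' ≫ forget f j') := by rw [diag_forget]; infer_instance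
      haveI := IsClosedImmersion.of_comp (diag f j' k') (forget f j')
      have h := sdim_comp_of_surjective b (diag f j' k') v
      rw [hbdef, diag_base] at h
      rw [hbdef, ← h]
      exact (pow_props f d hdim m).2.2.1 v
    have hunr : ∀ x', x' ⤳ z → ringKrullDim ((SymProd.fibPow f (m + 1)).presheaf.stalk x') = 1 →
        (q.stalkMap x').hom.FormallyUnramified := by
      intro x' _ hx'
      refine unram_stalk q W x' (hWmem x' fun hx => ?_)
      obtain ⟨c, hc, hc'⟩ := FlatEquiH1.coheight_add_sdim b _ hDP x'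
      rw [ringKrullDim_stalk_eq_coheight, hc] at hx'
      have hc1 : c = 1 := by exact_mod_cast hx'
      have := hbad x' hx
      rw [hc1, add_one_mul] at hc'
      omega
    have hnorm := RH26.isNormalScheme_of_regular (X := SymProd.fibPow f (m + 1))
      (fun x => WeilExt.isRegularLocalRing_stalk_of_smooth b x) z
    haveI := hnorm.1
    haveI := hnorm.2
    haveI := hreg
    obtain ⟨U, hzU, hU⟩ := Pur25.exists_etale_of_codim_one q z (q.quasiFiniteAt z) hdimz h1 hunr
    haveI := hU
    -- the transposition fixes a neighbourhood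
    let σ := Equiv.swap i j
    let ξ := pointOfClosedPoint b z hz
    have hξσ : ξ ≫ SymProd.permHom f (m + 1) σ = ξ := by
      apply WidePullback.hom_ext
      · intro l
        rw [Category.assoc, SymProd.permHom_π]
        refine ext_of_apply_closedPoint_eq f ?_ ?_ ?_
        · rw [Category.assoc, WidePullback.π_arrow]; exact pointOfClosedPoint_comp b z hz
        · rw [Category.assoc, WidePullback.π_arrow]; exact pointOfClosedPoint_comp b z hz
        · rw [Scheme.Hom.comp_apply, Scheme.Hom.comp_apply, pointOfClosedPoint_apply]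
          show (WidePullback.π (fun _ : Fin (m + 1) => f) (Equiv.swap i j l)) z = _
          rw [Equiv.swap_apply_def]
          split_ifs with h1 h2
          · rw [h1]; exact hij.symm
          · rw [h2]; exact hij
          · rfl
      · rw [Category.assoc, SymProd.permHom_base]
    let O : (SymProd.fibPow f (m + 1)).Opens := U ⊓ SymProd.permHom f (m + 1) σ ⁻¹ᵁ U
    have hξz : ∀ t, ξ t = z := fun t => pointOfClosedPoint_apply b z hz t
    have hzO : z ∈ O := ⟨hzU, by
      show SymProd.permHom f (m + 1) σ z ∈ U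
      rw [← hξz (IsLocalRing.closedPoint k), ← Scheme.Hom.comp_apply, hξσ, hξz]
      exact hzU⟩
    have hOirr : IrreducibleSpace O :=
      Subtype.irreducibleSpace ⟨⟨z, hzO⟩, (IrreducibleSpace.isIrreducible_univ _).2.open_subset O.2 (Set.subset_univ _)⟩
    haveI : PreconnectedSpace O.toScheme := by
      haveI : IrreducibleSpace O.toScheme := hOirr
      infer_instance
    let a' : O.toScheme ⟶ U.toScheme := (SymProd.fibPow f (m + 1)).homOfLE inf_le_left
    let b' : O.toScheme ⟶ U.toScheme := IsOpenImmersion.lift U.ι (O.ι ≫ SymProd.permHom f (m + 1) σ) (by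
      rintro _ ⟨t, rfl⟩
      rw [Scheme.Opens.range_ι, Scheme.Hom.comp_apply]
      exact t.2.2)
    have ha'ι : a' ≫ U.ι = O.ι := Scheme.homOfLE_ι _ _
    have hb'ι : b' ≫ U.ι = O.ι ≫ SymProd.permHom f (m + 1) σ := IsOpenImmersion.lift_fac _ _ _
    let ξO : Spec (CommRingCat.of k) ⟶ O.toScheme := IsOpenImmersion.lift O.ι ξ (by
      rintro _ ⟨t, rfl⟩
      rw [Scheme.Opens.range_ι, hξz]
      exact hzO)
    have hξO : ξO ≫ O.ι = ξ := IsOpenImmersion.lift_fac _ _ _
    have hinv : SymProd.permHom f (m + 1) σ ≫ q = q := hq.inv (ULift.up σ)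
    have hab : a' = b' := IsQuot25.eq_of_eq_at_point (U.ι ≫ q) a' b'
      (by rw [reassoc_of% ha'ι, reassoc_of% hb'ι, hinv]) ξO
      (by rw [← cancel_mono U.ι, Category.assoc, Category.assoc, ha'ι, hb'ι, reassoc_of% hξO, hξO, hξσ])
    have hO : O.ι = O.ι ≫ SymProd.permHom f (m + 1) σ := by rw [← hb'ι, ← hab, ha'ι]
    have hηO : genericPoint ↥(SymProd.fibPow f (m + 1)) ∈ O :=
      (genericPoint_specializes z).mem_open O.2 hzO
    have hη := mem_bad f O.ι hne (a := i) (b := j) (by
      conv_lhs => rw [hO, Category.assoc, SymProd.permHom_π]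
      simp [σ]) ⟨_, hηO⟩
    have h2 := hbad _ hη
    rw [show O.ι ⟨_, hηO⟩ = genericPoint ↥(SymProd.fibPow f (m + 1)) from rfl,
      hDP _ fun x hx => (hx.antisymm (genericPoint_specializes x)).eq, add_one_mul] at h2
    omega
  · intro hinj
    have hz' : z ∈ W := hWmem z fun h => not_injective_of_mem_bad f h hinj
    haveI : Smooth (W.ι ≫ b) := inferInstance
    exact (NodeBlow14.isRegular_iff_etale (W.ι ≫ q) ⟨z, hz'⟩).2
      (WeilExt.isRegularLocalRing_stalk_of_smooth (W.ι ≫ b) _)

end Groth.Agent.SymReg14
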