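import Groth.Prelude.Def_SymProd
import Groth.Agent.Lib.SymCurve14.Phi
import Groth.Agent.Lib.GeomIrr18.Scheme
import Groth.Agent.Lib.DimF18.Prod
import Groth.Agent.Lib.VarDim.Scheme
import Mathlib.AlgebraicGeometry.Morphisms.Smooth
import Mathlib.AlgebraicGeometry.AlgClosed.Basic

/-!
# Powers of an irreducible smooth scheme over an algebraically closed field and their diagonals
-/

set_option autoImplicit false
set_option linter.style.haveILetI false
set_option backward.isDefEq.respectTransparency.types false

universe u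

open CategoryTheory CategoryTheory.Limits AlgebraicGeometry

namespace Groth.Agent.SymReg14

open Groth.Agent.VarDim

section Diag

variable {X S : Scheme.{u}} (f : X ⟶ S)

/-- The index map collapsing `j` onto `k`. -/
def col {m : ℕ} (j : Fin (m + 1)) (k : Fin m) : Fin (m + 1) → Fin m :=
  Fin.insertNth j k id

theorem col_self {m : ℕ} (j : Fin (m + 1)) (k : Fin m) : col j k j = k :=
  Fin.insertNth_apply_same _ _ _

theorem col_succAbove {m : ℕ} (j : Fin (m + 1)) (k l : Fin m) : col j k (j.succAbove l) = l :=
  Fin.insertNth_apply_succAbove _ _ _ _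

/-- A partial diagonal. -/
noncomputable def diag {m : ℕ} (j : Fin (m + 1)) (k : Fin m) :
    SymProd.fibPow f m ⟶ SymProd.fibPow f (m + 1) :=
  WidePullback.lift (WidePullback.base _) (fun l => WidePullback.π (fun _ : Fin m => f) (col j k l))
    (fun _ => WidePullback.π_arrow _ _)

theorem diag_π {m : ℕ} (j : Fin (m + 1)) (k : Fin m) (l : Fin (m + 1)) :
    diag f j k ≫ WidePullback.π (fun _ : Fin (m + 1) => f) l =
      WidePullback.π (fun _ : Fin m => f) (col j k l) :=
  WidePullback.lift_π _ _ _ _ _

theorem diag_base {m : ℕ} (j : Fin (m + 1)) (k : Fin m) :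
    diag f j k ≫ WidePullback.base (fun _ : Fin (m + 1) => f) = WidePullback.base _ :=
  WidePullback.lift_base _ _ _ _

/-- Forgetting the `j`-th factor. -/
noncomputable def forget {m : ℕ} (j : Fin (m + 1)) :
    SymProd.fibPow f (m + 1) ⟶ SymProd.fibPow f m :=
  WidePullback.lift (WidePullback.base _) (fun l => WidePullback.π (fun _ : Fin (m + 1) => f) (j.succAbove l))
    (fun _ => WidePullback.π_arrow _ _)

theorem diag_forget {m : ℕ} (j : Fin (m + 1)) (k : Fin m) : diag f j k ≫ forget f j = 𝟙 _ := by
  apply WidePullback.hom_ext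
  · intro l
    rw [Category.assoc, forget, WidePullback.lift_π, diag_π, col_succAbove, Category.id_comp]
  · rw [Category.assoc, forget, WidePullback.lift_base, diag_base, Category.id_comp]

theorem forget_base {m : ℕ} (j : Fin (m + 1)) :
    forget f j ≫ WidePullback.base (fun _ : Fin m => f) = WidePullback.base _ :=
  WidePullback.lift_base _ _ _ _

theorem factor {m : ℕ} {T : Scheme.{u}} (ξ : T ⟶ SymProd.fibPow f (m + 1)) (a b : Fin (m + 1)) (hab : a ≠ b)
    (h : ξ ≫ WidePullback.π (fun _ : Fin (m + 1) => f) a = ξ ≫ WidePullback.π (fun _ : Fin (m + 1) => f) b) :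
    ∃ k : Fin m, ∃ η : T ⟶ SymProd.fibPow f m, η ≫ diag f a k = ξ := by
  obtain ⟨k, hk⟩ := Fin.exists_succAbove_eq hab.symm
  refine ⟨k, ξ ≫ forget f a, ?_⟩
  apply WidePullback.hom_ext
  · intro l
    rw [Category.assoc, Category.assoc, diag_π, forget, WidePullback.lift_π]
    rcases Fin.eq_self_or_eq_succAbove a l with rfl | ⟨l', rfl⟩
    · rw [col_self, hk, ← h]
    · rw [col_succAbove]
  · rw [Category.assoc, Category.assoc, diag_base, forget_base]

theorem isSeparated_base [IsSeparated f] : ∀ n : ℕ, IsSeparated (WidePullback.base fun _ : Fin n => f) := by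
  intro n
  induction n with
  | zero =>
    haveI : Mono (WidePullback.base fun _ : Fin 0 => f) :=
      ⟨fun a b h => WidePullback.hom_ext _ _ _ (fun i => i.elim0) h⟩
    infer_instance
  | succ m ih =>
    haveI := ih
    have hb : WidePullback.base (fun _ : Fin (m + 1) => f) =
        (SymCurve14.isPullback_projInit f m).isoPullback.hom ≫
          pullback.fst f (WidePullback.base fun _ : Fin m => f) ≫ f := by
      rw [IsPullback.isoPullback_hom_fst_assoc, WidePullback.π_arrow]
    rw [hb]
    infer_instance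

/-- The union of the partial diagonals. -/
def bad (m : ℕ) : Set ↥(SymProd.fibPow f (m + 1)) :=
  ⋃ p : Fin (m + 1) × Fin m, Set.range (diag f p.1 p.2)

theorem mem_bad {m : ℕ} {T : Scheme.{u}} (ξ : T ⟶ SymProd.fibPow f (m + 1)) {a b : Fin (m + 1)} (hab : a ≠ b)
    (h : ξ ≫ WidePullback.π (fun _ : Fin (m + 1) => f) a = ξ ≫ WidePullback.π (fun _ : Fin (m + 1) => f) b)
    (t : T) : ξ t ∈ bad f m := by
  obtain ⟨k, η, rfl⟩ := factor f ξ a b hab h
  exact Set.mem_iUnion.2 ⟨(a, k), ⟨η t, (Scheme.Hom.comp_apply _ _ _).symm⟩⟩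

theorem isClosed_bad [IsSeparated f] (m : ℕ) : IsClosed (bad f m) := by
  refine isClosed_iUnion_of_finite fun p => ?_
  haveI := isSeparated_base f (m + 1)
  haveI : IsSeparated (forget f p.1) := by
    haveI : IsSeparated (forget f p.1 ≫ WidePullback.base (fun _ : Fin m => f)) := by
      rw [forget_base]; infer_instance
    exact IsSeparated.of_comp _ (WidePullback.base (fun _ : Fin m => f))
  haveI : IsClosedImmersion (diag f p.1 p.2 ≫ forget f p.1) := by rw [diag_forget]; infer_instance
  haveI := IsClosedImmersion.of_comp (diag f p.1 p.2) (forget f p.1)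
  exact (diag f p.1 p.2).isClosedEmbedding.isClosed_range

theorem bad_perm {m : ℕ} (σ : Equiv.Perm (Fin (m + 1))) (w : ↥(SymProd.fibPow f (m + 1))) (hw : w ∈ bad f m) :
    SymProd.permHom f (m + 1) σ w ∈ bad f m := by
  obtain ⟨⟨j, k⟩, v, rfl⟩ := Set.mem_iUnion.1 hw
  rw [← Scheme.Hom.comp_apply]
  refine mem_bad f (diag f j k ≫ SymProd.permHom f (m + 1) σ) (a := σ j) (b := σ (j.succAbove k))
    (fun e => Fin.succAbove_ne j k (σ.injective e).symm) ?_ v
  simp only [Category.assoc, SymProd.permHom_π, Equiv.symm_apply_apply, diag_π, col_self, col_succAbove]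

theorem not_injective_of_mem_bad {m : ℕ} {w : ↥(SymProd.fibPow f (m + 1))} (hw : w ∈ bad f m) :
    ¬ Function.Injective (fun i : Fin (m + 1) => (WidePullback.π (fun _ : Fin (m + 1) => f) i).base w) := by
  obtain ⟨⟨j, k⟩, v, rfl⟩ := Set.mem_iUnion.1 hw
  intro hinj
  refine Fin.succAbove_ne j k (hinj (a₁ := j.succAbove k) (a₂ := j) ?_)
  show (WidePullback.π (fun _ : Fin (m + 1) => f) (j.succAbove k)) (diag f j k v) =
    (WidePullback.π (fun _ : Fin (m + 1) => f) j) (diag f j k v)
  rw [← Scheme.Hom.comp_apply, ← Scheme.Hom.comp_apply, diag_π, diag_π, col_self, col_succAbove]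

end Diag

variable {k : Type u} [Field k] [IsAlgClosed k] {X : Scheme.{u}} (f : X ⟶ Spec (CommRingCat.of k))
  [Smooth f] [IrreducibleSpace X]

theorem pow_props (d : ℕ) (hd : topologicalKrullDim X = d) : ∀ n : ℕ,
    Smooth (WidePullback.base fun _ : Fin n => f) ∧ IrreducibleSpace ↥(SymProd.fibPow f n) ∧
      (∀ z : ↥(SymProd.fibPow f n), sdim (WidePullback.base fun _ : Fin n => f) z ≤ n * d) ∧
      ∃ z : ↥(SymProd.fibPow f n), sdim (WidePullback.base fun _ : Fin n => f) z = n * d := by
  intro n
  induction n with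
  | zero =>
    let l : Spec (CommRingCat.of k) ⟶ SymProd.fibPow f 0 :=
      WidePullback.lift (𝟙 _) (fun i => i.elim0) fun i => i.elim0
    have h1 : l ≫ WidePullback.base (fun _ : Fin 0 => f) = 𝟙 _ := WidePullback.lift_base _ _ _ _
    have h2 : WidePullback.base (fun _ : Fin 0 => f) ≫ l = 𝟙 _ := by
      apply WidePullback.hom_ext
      · exact fun i => i.elim0
      · rw [Category.assoc, h1, Category.comp_id, Category.id_comp]
    let e : SymProd.fibPow f 0 ≅ Spec (CommRingCat.of k) := ⟨_, l, h2, h1⟩
    haveI : IsIso (WidePullback.base (fun _ : Fin 0 => f)) := ⟨l, h2, h1⟩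
    haveI : IrreducibleSpace ↥(SymProd.fibPow f 0) := e.hom.homeomorph.irreducibleSpace_iff.2 inferInstance
    have hz : ∀ z : ↥(SymProd.fibPow f 0), sdim (WidePullback.base fun _ : Fin 0 => f) z = 0 := fun z => by
      rw [sdim_eq_zero_iff_isClosed]
      haveI : Subsingleton ↥(SymProd.fibPow f 0) := e.hom.homeomorph.injective.subsingleton
      exact (Set.subsingleton_singleton.eq_singleton_of_mem rfl) ▸ isClosed_discrete _
    exact ⟨inferInstance, inferInstance, fun z => by rw [hz z]; exact Nat.zero_le _,
      Classical.arbitrary _, by rw [hz, zero_mul]⟩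
  | succ m ih =>
    obtain ⟨hs, hi, hle, z₀, hz₀⟩ := ih
    haveI := hs
    haveI := hi
    have sq := SymCurve14.isPullback_projInit f m
    let e := sq.isoPullback
    have hb : WidePullback.base (fun _ : Fin (m + 1) => f) =
        e.hom ≫ pullback.fst f (WidePullback.base fun _ : Fin m => f) ≫ f := by
      rw [IsPullback.isoPullback_hom_fst_assoc, WidePullback.π_arrow]
    haveI : GeometricallyIrreducible f := GeomIrr.geometricallyIrreducible_of_isSepClosed f
    haveI : IrreducibleSpace ↥(pullback f (WidePullback.base fun _ : Fin m => f)) := inferInstance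
    haveI : IrreducibleSpace ↥(SymProd.fibPow f (m + 1)) := e.hom.homeomorph.irreducibleSpace_iff.2 inferInstance
    haveI : LocallyOfFiniteType (pullback.fst f (WidePullback.base fun _ : Fin m => f) ≫ f) := inferInstance
    have hX : ∀ x : X, sdim f x ≤ sdim f (genericPoint X) := fun x => by
      by_cases he : genericPoint X = x
      · rw [he]
      · exact (sdim_lt_of_specializes f (genericPoint_specializes x) he).le
    have hgen : sdim f (genericPoint X) = d := by
      have := (dim_eq_sdim_genericPoint f).symm.trans hd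
      exact_mod_cast this
    refine ⟨by rw [hb]; infer_instance, inferInstance, fun z => ?_, ?_⟩
    · rw [hb, sdim_comp_of_surjective _ e.hom z]
      refine (DimF18.sdim_prod f _ (e.hom z)).1.trans ?_
      have h1 := hX (pullback.fst f (WidePullback.base fun _ : Fin m => f) (e.hom z))
      have h2 := hle (pullback.snd f (WidePullback.base fun _ : Fin m => f) (e.hom z))
      rw [add_one_mul]
      omega
    · obtain ⟨w, hw⟩ := DimF18.exists_prod_sdim f (WidePullback.base fun _ : Fin m => f) (genericPoint X) z₀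
      refine ⟨e.inv w, ?_⟩
      rw [hb, sdim_comp_of_surjective _ e.hom, ← Scheme.Hom.comp_apply, e.inv_hom_id]
      show sdim _ w = _
      rw [hw, hgen, hz₀, add_one_mul, add_comm]

end Groth.Agent.SymReg14
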